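import Cfsg.Agent.H122.SNX.Tab
import Cfsg.Agent.H81.PJExc

/-!
# The combinatorial facts for `E₆`, `E₇`, `E₈` (helper122, for S3831)
-/

set_option autoImplicit false
set_option linter.unusedSectionVars false

namespace Cfsg.Agent.H122.SNX

open CoxeterSystem Cfsg.Agent.ChevalleyStructure.CoxeterGeom Cfsg.Agent.Tits.Roots Cfsg.Agent.Tits.Core
  Cfsg.Agent.Tits.RootComb Cfsg.Agent.Tits.Exchange Cfsg.Agent.Nodes.Reps Cfsg.Agent.Nodes.BNOf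
  Cfsg.Agent.Nodes.StabComb Cfsg.Agent.H81.PJTab Cfsg.Agent.H523.DspPath Cfsg.Agent.H523.DspTab
  Cfsg.Agent.H81.PJExc
open Cfsg.Lie Cfsg.Agent.ChevalleyStructure.CoxeterGeomTypes

/-- the positive roots of `E₆` -/
def L6 : List (List ℤ) := [
   [0, 0, 0, 0, 0, 1], [0, 0, 0, 0, 1, 0], [0, 0, 0, 1, 0, 0], [0, 0, 1, 0, 0, 0], [0, 1, 0, 0, 0, 0],
   [1, 0, 0, 0, 0, 0], [0, 0, 0, 0, 1, 1], [0, 0, 0, 1, 1, 0], [0, 0, 1, 1, 0, 0], [0, 1, 0, 1, 0, 0],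
   [1, 0, 1, 0, 0, 0], [0, 0, 0, 1, 1, 1], [0, 0, 1, 1, 1, 0], [0, 1, 0, 1, 1, 0], [0, 1, 1, 1, 0, 0],
   [1, 0, 1, 1, 0, 0], [0, 0, 1, 1, 1, 1], [0, 1, 0, 1, 1, 1], [0, 1, 1, 1, 1, 0], [1, 0, 1, 1, 1, 0],
   [1, 1, 1, 1, 0, 0], [0, 1, 1, 1, 1, 1], [0, 1, 1, 2, 1, 0], [1, 0, 1, 1, 1, 1], [1, 1, 1, 1, 1, 0],
   [0, 1, 1, 2, 1, 1], [1, 1, 1, 1, 1, 1], [1, 1, 1, 2, 1, 0], [0, 1, 1, 2, 2, 1], [1, 1, 1, 2, 1, 1],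
   [1, 1, 2, 2, 1, 0], [1, 1, 1, 2, 2, 1], [1, 1, 2, 2, 1, 1], [1, 1, 2, 2, 2, 1], [1, 1, 2, 3, 2, 1],
   [1, 2, 2, 3, 2, 1]]

theorem rt6 : RT 6 aE6 L6 (fun _ => 1) (fun _ => 1) where
  nodup := by decide +kernel
  len := by decide +kernel
  nn := by decide +kernel
  base := by decide +kernel
  step := by decide +kernel
  desc := by decide +kernel

theorem sh6 : Sh 6 aE6 := by unfold Sh; decide +kernel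

theorem dtab6 : DTab CoxeterMatrix.E₆ 1 3 ![2, 3, 3, 1, 3, 4] ![3, 0, 2, 1, 2, 3] where
  h4 := by decide +kernel
  h6 := by decide +kernel
  hij := by decide +kernel
  orth := by decide +kernel
  con := by decide +kernel
  conE := by decide +kernel

theorem tab6 : Tab CoxeterMatrix.E₆ aE6 L6 1 3 [0, 1, 1, 2, 1, 0] [1, 1, 2, 3, 2, 1] 2 3 4 0 2
    [3, 1, 2, 3]
    [3, 4, 5, 1, 3, 4, 2, 3, 0, 2, 1, 3] where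
  g0 := by decide +kernel
  g1 := by decide +kernel
  g2 := by decide +kernel
  t0 := by decide +kernel
  sub := by decide +kernel
  pf := by decide +kernel
  fq := by decide +kernel
  pq := by decide +kernel
  wi := by decide +kernel
  wg := by decide +kernel
  gl := by decide +kernel
  wS := by decide +kernel
  t4 := by decide +kernel
  ab := by decide +kernel
  wi5 := by decide +kernel
  wd := by decide +kernel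
  dl := by decide +kernel
  dj := by decide +kernel
  top := by decide +kernel

theorem cmb6 {W : Type*} [Group W] [Finite W] (cs : CoxeterSystem CoxeterMatrix.E₆ W) (h : IsCartan CoxeterMatrix.E₆ (cartanOf chevE6 6)) :
    Cmb cs h 1 3 := cmb_of cs h sh6 aE6_ok rt6 dtab6 tab6

/-- the positive roots of `E₇` -/
def L7 : List (List ℤ) := [
   [0, 0, 0, 0, 0, 0, 1], [0, 0, 0, 0, 0, 1, 0], [0, 0, 0, 0, 1, 0, 0], [0, 0, 0, 1, 0, 0, 0],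
   [0, 0, 1, 0, 0, 0, 0], [0, 1, 0, 0, 0, 0, 0], [1, 0, 0, 0, 0, 0, 0], [0, 0, 0, 0, 0, 1, 1],
   [0, 0, 0, 0, 1, 1, 0], [0, 0, 0, 1, 1, 0, 0], [0, 0, 1, 1, 0, 0, 0], [0, 1, 0, 1, 0, 0, 0],
   [1, 0, 1, 0, 0, 0, 0], [0, 0, 0, 0, 1, 1, 1], [0, 0, 0, 1, 1, 1, 0], [0, 0, 1, 1, 1, 0, 0],
   [0, 1, 0, 1, 1, 0, 0], [0, 1, 1, 1, 0, 0, 0], [1, 0, 1, 1, 0, 0, 0], [0, 0, 0, 1, 1, 1, 1],
   [0, 0, 1, 1, 1, 1, 0], [0, 1, 0, 1, 1, 1, 0], [0, 1, 1, 1, 1, 0, 0], [1, 0, 1, 1, 1, 0, 0],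
   [1, 1, 1, 1, 0, 0, 0], [0, 0, 1, 1, 1, 1, 1], [0, 1, 0, 1, 1, 1, 1], [0, 1, 1, 1, 1, 1, 0],
   [0, 1, 1, 2, 1, 0, 0], [1, 0, 1, 1, 1, 1, 0], [1, 1, 1, 1, 1, 0, 0], [0, 1, 1, 1, 1, 1, 1],
   [0, 1, 1, 2, 1, 1, 0], [1, 0, 1, 1, 1, 1, 1], [1, 1, 1, 1, 1, 1, 0], [1, 1, 1, 2, 1, 0, 0],
   [0, 1, 1, 2, 1, 1, 1], [0, 1, 1, 2, 2, 1, 0], [1, 1, 1, 1, 1, 1, 1], [1, 1, 1, 2, 1, 1, 0],
   [1, 1, 2, 2, 1, 0, 0], [0, 1, 1, 2, 2, 1, 1], [1, 1, 1, 2, 1, 1, 1], [1, 1, 1, 2, 2, 1, 0],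
   [1, 1, 2, 2, 1, 1, 0], [0, 1, 1, 2, 2, 2, 1], [1, 1, 1, 2, 2, 1, 1], [1, 1, 2, 2, 1, 1, 1],
   [1, 1, 2, 2, 2, 1, 0], [1, 1, 1, 2, 2, 2, 1], [1, 1, 2, 2, 2, 1, 1], [1, 1, 2, 3, 2, 1, 0],
   [1, 1, 2, 2, 2, 2, 1], [1, 1, 2, 3, 2, 1, 1], [1, 2, 2, 3, 2, 1, 0], [1, 1, 2, 3, 2, 2, 1],
   [1, 2, 2, 3, 2, 1, 1], [1, 1, 2, 3, 3, 2, 1], [1, 2, 2, 3, 2, 2, 1], [1, 2, 2, 3, 3, 2, 1],
   [1, 2, 2, 4, 3, 2, 1], [1, 2, 3, 4, 3, 2, 1], [2, 2, 3, 4, 3, 2, 1]]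

theorem rt7 : RT 7 aE7 L7 (fun _ => 1) (fun _ => 1) where
  nodup := by decide +kernel
  len := by decide +kernel
  nn := by decide +kernel
  base := by decide +kernel
  step := by decide +kernel
  desc := by decide +kernel

theorem sh7 : Sh 7 aE7 := by unfold Sh; decide +kernel

theorem dtab7 : DTab CoxeterMatrix.E₇ 0 2 ![0, 3, 0, 2, 3, 4, 5] ![0, 3, 1, 2, 3, 4, 5] where
  h4 := by decide +kernel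
  h6 := by decide +kernel
  hij := by decide +kernel
  orth := by decide +kernel
  con := by decide +kernel
  conE := by decide +kernel

theorem tab7 : Tab CoxeterMatrix.E₇ aE7 L7 0 2 [1, 1, 2, 2, 1, 0, 0] [1, 2, 3, 4, 3, 2, 1] 1 3 4 6 5
    [3, 2, 0, 1, 3, 2]
    [4, 3, 2, 1, 3, 4, 5, 6, 0, 2, 3, 4, 5, 1, 3, 4, 2, 3, 0, 2] where
  g0 := by decide +kernel
  g1 := by decide +kernel
  g2 := by decide +kernel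
  t0 := by decide +kernel
  sub := by decide +kernel
  pf := by decide +kernel
  fq := by decide +kernel
  pq := by decide +kernel
  wi := by decide +kernel
  wg := by decide +kernel
  gl := by decide +kernel
  wS := by decide +kernel
  t4 := by decide +kernel
  ab := by decide +kernel
  wi5 := by decide +kernel
  wd := by decide +kernel
  dl := by decide +kernel
  dj := by decide +kernel
  top := by decide +kernel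

theorem cmb7 {W : Type*} [Group W] [Finite W] (cs : CoxeterSystem CoxeterMatrix.E₇ W) (h : IsCartan CoxeterMatrix.E₇ (cartanOf chevE7 7)) :
    Cmb cs h 0 2 := cmb_of cs h sh7 aE7_ok rt7 dtab7 tab7

/-- the positive roots of `E₈` -/
def L8 : List (List ℤ) := [
   [0, 0, 0, 0, 0, 0, 0, 1], [0, 0, 0, 0, 0, 0, 1, 0], [0, 0, 0, 0, 0, 1, 0, 0], [0, 0, 0, 0, 1, 0, 0, 0],
   [0, 0, 0, 1, 0, 0, 0, 0], [0, 0, 1, 0, 0, 0, 0, 0], [0, 1, 0, 0, 0, 0, 0, 0], [1, 0, 0, 0, 0, 0, 0, 0],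
   [0, 0, 0, 0, 0, 0, 1, 1], [0, 0, 0, 0, 0, 1, 1, 0], [0, 0, 0, 0, 1, 1, 0, 0], [0, 0, 0, 1, 1, 0, 0, 0],
   [0, 0, 1, 1, 0, 0, 0, 0], [0, 1, 0, 1, 0, 0, 0, 0], [1, 0, 1, 0, 0, 0, 0, 0], [0, 0, 0, 0, 0, 1, 1, 1],
   [0, 0, 0, 0, 1, 1, 1, 0], [0, 0, 0, 1, 1, 1, 0, 0], [0, 0, 1, 1, 1, 0, 0, 0], [0, 1, 0, 1, 1, 0, 0, 0],
   [0, 1, 1, 1, 0, 0, 0, 0], [1, 0, 1, 1, 0, 0, 0, 0], [0, 0, 0, 0, 1, 1, 1, 1], [0, 0, 0, 1, 1, 1, 1, 0],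
   [0, 0, 1, 1, 1, 1, 0, 0], [0, 1, 0, 1, 1, 1, 0, 0], [0, 1, 1, 1, 1, 0, 0, 0], [1, 0, 1, 1, 1, 0, 0, 0],
   [1, 1, 1, 1, 0, 0, 0, 0], [0, 0, 0, 1, 1, 1, 1, 1], [0, 0, 1, 1, 1, 1, 1, 0], [0, 1, 0, 1, 1, 1, 1, 0],
   [0, 1, 1, 1, 1, 1, 0, 0], [0, 1, 1, 2, 1, 0, 0, 0], [1, 0, 1, 1, 1, 1, 0, 0], [1, 1, 1, 1, 1, 0, 0, 0],
   [0, 0, 1, 1, 1, 1, 1, 1], [0, 1, 0, 1, 1, 1, 1, 1], [0, 1, 1, 1, 1, 1, 1, 0], [0, 1, 1, 2, 1, 1, 0, 0],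
   [1, 0, 1, 1, 1, 1, 1, 0], [1, 1, 1, 1, 1, 1, 0, 0], [1, 1, 1, 2, 1, 0, 0, 0], [0, 1, 1, 1, 1, 1, 1, 1],
   [0, 1, 1, 2, 1, 1, 1, 0], [0, 1, 1, 2, 2, 1, 0, 0], [1, 0, 1, 1, 1, 1, 1, 1], [1, 1, 1, 1, 1, 1, 1, 0],
   [1, 1, 1, 2, 1, 1, 0, 0], [1, 1, 2, 2, 1, 0, 0, 0], [0, 1, 1, 2, 1, 1, 1, 1], [0, 1, 1, 2, 2, 1, 1, 0],
   [1, 1, 1, 1, 1, 1, 1, 1], [1, 1, 1, 2, 1, 1, 1, 0], [1, 1, 1, 2, 2, 1, 0, 0], [1, 1, 2, 2, 1, 1, 0, 0],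
   [0, 1, 1, 2, 2, 1, 1, 1], [0, 1, 1, 2, 2, 2, 1, 0], [1, 1, 1, 2, 1, 1, 1, 1], [1, 1, 1, 2, 2, 1, 1, 0],
   [1, 1, 2, 2, 1, 1, 1, 0], [1, 1, 2, 2, 2, 1, 0, 0], [0, 1, 1, 2, 2, 2, 1, 1], [1, 1, 1, 2, 2, 1, 1, 1],
   [1, 1, 1, 2, 2, 2, 1, 0], [1, 1, 2, 2, 1, 1, 1, 1], [1, 1, 2, 2, 2, 1, 1, 0], [1, 1, 2, 3, 2, 1, 0, 0],
   [0, 1, 1, 2, 2, 2, 2, 1], [1, 1, 1, 2, 2, 2, 1, 1], [1, 1, 2, 2, 2, 1, 1, 1], [1, 1, 2, 2, 2, 2, 1, 0],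
   [1, 1, 2, 3, 2, 1, 1, 0], [1, 2, 2, 3, 2, 1, 0, 0], [1, 1, 1, 2, 2, 2, 2, 1], [1, 1, 2, 2, 2, 2, 1, 1],
   [1, 1, 2, 3, 2, 1, 1, 1], [1, 1, 2, 3, 2, 2, 1, 0], [1, 2, 2, 3, 2, 1, 1, 0], [1, 1, 2, 2, 2, 2, 2, 1],
   [1, 1, 2, 3, 2, 2, 1, 1], [1, 1, 2, 3, 3, 2, 1, 0], [1, 2, 2, 3, 2, 1, 1, 1], [1, 2, 2, 3, 2, 2, 1, 0],
   [1, 1, 2, 3, 2, 2, 2, 1], [1, 1, 2, 3, 3, 2, 1, 1], [1, 2, 2, 3, 2, 2, 1, 1], [1, 2, 2, 3, 3, 2, 1, 0],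
   [1, 1, 2, 3, 3, 2, 2, 1], [1, 2, 2, 3, 2, 2, 2, 1], [1, 2, 2, 3, 3, 2, 1, 1], [1, 2, 2, 4, 3, 2, 1, 0],
   [1, 1, 2, 3, 3, 3, 2, 1], [1, 2, 2, 3, 3, 2, 2, 1], [1, 2, 2, 4, 3, 2, 1, 1], [1, 2, 3, 4, 3, 2, 1, 0],
   [1, 2, 2, 3, 3, 3, 2, 1], [1, 2, 2, 4, 3, 2, 2, 1], [1, 2, 3, 4, 3, 2, 1, 1], [2, 2, 3, 4, 3, 2, 1, 0],
   [1, 2, 2, 4, 3, 3, 2, 1], [1, 2, 3, 4, 3, 2, 2, 1], [2, 2, 3, 4, 3, 2, 1, 1], [1, 2, 2, 4, 4, 3, 2, 1],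
   [1, 2, 3, 4, 3, 3, 2, 1], [2, 2, 3, 4, 3, 2, 2, 1], [1, 2, 3, 4, 4, 3, 2, 1], [2, 2, 3, 4, 3, 3, 2, 1],
   [1, 2, 3, 5, 4, 3, 2, 1], [2, 2, 3, 4, 4, 3, 2, 1], [1, 3, 3, 5, 4, 3, 2, 1], [2, 2, 3, 5, 4, 3, 2, 1],
   [2, 2, 4, 5, 4, 3, 2, 1], [2, 3, 3, 5, 4, 3, 2, 1], [2, 3, 4, 5, 4, 3, 2, 1], [2, 3, 4, 6, 4, 3, 2, 1],
   [2, 3, 4, 6, 5, 3, 2, 1], [2, 3, 4, 6, 5, 4, 2, 1], [2, 3, 4, 6, 5, 4, 3, 1], [2, 3, 4, 6, 5, 4, 3, 2]]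

theorem rt8 : RT 8 aE8 L8 (fun _ => 1) (fun _ => 1) where
  nodup := by decide +kernel
  len := by decide +kernel
  nn := by decide +kernel
  base := by decide +kernel
  step := by decide +kernel
  desc := by decide +kernel

theorem sh8 : Sh 8 aE8 := by unfold Sh; decide +kernel

theorem dtab8 : DTab CoxeterMatrix.E₈ 7 6 ![2, 3, 3, 4, 5, 6, 7, 7] ![6, 5, 5, 4, 3, 2, 1, 0] where
  h4 := by decide +kernel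
  h6 := by decide +kernel
  hij := by decide +kernel
  orth := by decide +kernel
  con := by decide +kernel
  conE := by decide +kernel

theorem tab8 : Tab CoxeterMatrix.E₈ aE8 L8 7 6 [0, 1, 1, 2, 2, 2, 2, 1] [2, 3, 4, 6, 5, 4, 3, 1] 2 3 1 7 6
    [3, 4, 5, 6, 7, 2, 3, 4, 5, 6]
    [5, 4, 3, 2, 1, 3, 4, 5, 6, 0, 2, 3, 4, 5, 1, 3, 4, 2, 3, 0, 2, 1, 3, 4, 5, 6, 7, 6, 5, 4, 3, 2, 1, 3, 4, 5, 6] where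
  g0 := by decide +kernel
  g1 := by decide +kernel
  g2 := by decide +kernel
  t0 := by decide +kernel
  sub := by decide +kernel
  pf := by decide +kernel
  fq := by decide +kernel
  pq := by decide +kernel
  wi := by decide +kernel
  wg := by decide +kernel
  gl := by decide +kernel
  wS := by decide +kernel
  t4 := by decide +kernel
  ab := by decide +kernel
  wi5 := by decide +kernel
  wd := by decide +kernel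
  dl := by decide +kernel
  dj := by decide +kernel
  top := by decide +kernel

theorem cmb8 {W : Type*} [Group W] [Finite W] (cs : CoxeterSystem CoxeterMatrix.E₈ W) (h : IsCartan CoxeterMatrix.E₈ (cartanOf chevE8 8)) :
    Cmb cs h 7 6 := cmb_of cs h sh8 aE8_ok rt8 dtab8 tab8

end Cfsg.Agent.H122.SNX
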