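import Cfsg.Agent.Nodes.Unique
import Cfsg.Agent.Nodes.LeviDec
import Cfsg.Agent.Nodes.SimplyLaced
import Cfsg.Agent.H880.Six.Lrg

/-!
# Supports of unipotent elements (helper122, for S3831)

* `Sp cs h X v` : the smallest closed set `S` of positive roots with `v ∈ Sup X S`;
* `sp_conj` : supports and conjugation by representatives;
* `BB` : the facts about root group data over `F₃` used by the engine (T1, T2 of S3831).
-/

set_option autoImplicit false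
set_option linter.unusedSectionVars false

namespace Cfsg.Agent.H122.SNX

open CoxeterSystem Cfsg.Agent.ChevalleyStructure.CoxeterGeom Cfsg.Agent.Tits.Roots Cfsg.Agent.Tits.Core
  Cfsg.Agent.Tits.RootComb Cfsg.Agent.Tits.Exchange Cfsg.Agent.Nodes.Reps Cfsg.Agent.Nodes.BNOf
  Cfsg.Agent.Nodes.StabComb Cfsg.Agent.Nodes.Bruhat Cfsg.Agent.Nodes.OppDec Cfsg.Agent.Nodes.LeviDec
  Cfsg.Agent.Nodes.Unique Cfsg.Agent.Nodes.Coroot Cfsg.Agent.Nodes.SimplyLaced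
open Cfsg.Agent.H880.Six (PS2)
open scoped commutatorElement

/-! ### `PS2` -/

theorem ps2_conj {Y : Type*} [Group Y] {v : Y} (hv : PS2 v) (g : Y) : PS2 (g * v * g⁻¹) := by
  intro x
  have h1 := hv (g⁻¹ * x * g)
  have h2 : Subgroup.closure ({g * v * g⁻¹, x * (g * v * g⁻¹) * x⁻¹} : Set Y) =
      (Subgroup.closure ({v, (g⁻¹ * x * g) * v * (g⁻¹ * x * g)⁻¹} : Set Y)).map (MulAut.conj g).toMonoidHom := by
    have h3 : x * (g * v * g⁻¹) * x⁻¹ = g * ((g⁻¹ * x * g) * v * (g⁻¹ * x * g)⁻¹) * g⁻¹ := by group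
    rw [MonoidHom.map_closure, Set.image_pair, h3]
    rfl
  rw [h2]
  exact Group.isSolvable_of_surjective (f := ((MulAut.conj g).toMonoidHom.subgroupMap _))
    (MonoidHom.subgroupMap_surjective _ _)

variable {I W Y : Type*} [Fintype I] [DecidableEq I] [Group W] [Group Y] {M : CoxeterMatrix I}
  {cs : CoxeterSystem M W} {A : I → I → ℤ} {h : IsCartan M A} {p : ℕ} {T : Subgroup Y} {n : I → Y}
  {X : (I → ℤ) → Subgroup Y}

/-! ### closed sets -/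

theorem closed_notJ (J : Set I) : Closed cs h (NotJ cs h J) := by
  intro x hx y hy z hz
  obtain ⟨hxr, hx0, k, hk, hk0⟩ := hx
  have h1 : 0 ≤ z := RGD.nonneg_of_btwn hx0 hy.2.1 hz
  exact ⟨hz.1, h1, k, hk, btwn_apply_pos hz hk0 (hy.2.1 k)⟩

theorem mem_notJ_single {i : I} {x : I → ℤ} : x ∈ NotJ cs h {i} ↔ x ∈ RGD.Pos cs h ∧ x ≠ sr i := by
  constructor
  · rintro ⟨h1, h2, k, hk, hk0⟩
    refine ⟨⟨h1, h2⟩, ?_⟩
    rintro rfl
    rw [sr_ne (fun e => hk (by rw [e]; rfl))] at hk0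
    exact absurd hk0 (lt_irrefl _)
  · rintro ⟨⟨h1, h2⟩, h3⟩
    obtain ⟨k, hk, hk0⟩ := exists_coeff h1 h2 h3
    exact ⟨h1, h2, k, hk, hk0⟩

theorem closed_image {S : Set (I → ℤ)} (hS : Closed cs h S) (w : W) : Closed cs h (rep cs h w '' S) := by
  rintro _ ⟨x, hx, rfl⟩ _ ⟨y, hy, rfl⟩ z hz
  have h1 := hz.act w⁻¹
  rw [rep_inv_apply, rep_inv_apply] at h1
  exact ⟨_, hS x hx y hy _ h1, rep_apply_inv cs h w z⟩

/-- the closed support -/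
def Sp (cs : CoxeterSystem M W) (h : IsCartan M A) (X : (I → ℤ) → Subgroup Y) (v : Y) : Set (I → ℤ) :=
  {x | ∀ S, S ⊆ RGD.Pos cs h → Closed cs h S → v ∈ RGD.Sup X S → x ∈ S}

theorem sp_subset {v : Y} {S : Set (I → ℤ)} (hS : S ⊆ RGD.Pos cs h) (hc : Closed cs h S) (hv : v ∈ RGD.Sup X S) :
    Sp cs h X v ⊆ S := fun _ hx => hx S hS hc hv

theorem sp_pos {v : Y} (hv : v ∈ RGD.Sup X (RGD.Pos cs h)) : Sp cs h X v ⊆ RGD.Pos cs h :=
  sp_subset (fun _ h => h) closed_pos hv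

theorem closed_sp (v : Y) : Closed cs h (Sp cs h X v) := fun x hx y hy z hz S h1 h2 h3 =>
  h2 x (hx S h1 h2 h3) y (hy S h1 h2 h3) z hz

theorem mem_sp (R : RGD cs h p T n X) [Finite W] {v : Y} (hv : v ∈ RGD.Sup X (RGD.Pos cs h)) :
    v ∈ RGD.Sup X (Sp cs h X v) := by
  have hfin : {S : Set (I → ℤ) | S ⊆ RGD.Pos cs h ∧ Closed cs h S ∧ v ∈ RGD.Sup X S}.Finite :=
    (finite_pos (cs := cs) (h := h)).finite_subsets.subset fun S hS => hS.1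
  obtain ⟨S, ⟨h1, h2, h3⟩, hmin⟩ := Set.exists_min_image _ Set.ncard hfin ⟨RGD.Pos cs h, fun _ h => h, closed_pos, hv⟩
  have hS : Sp cs h X v = S := by
    apply le_antisymm (sp_subset h1 h2 h3)
    intro x hx S' a b c
    have h4 : v ∈ RGD.Sup X (S ∩ S') := by
      rw [← inf_eq R h1 a h2 b]
      exact ⟨h3, c⟩
    have h5 := hmin (S ∩ S') ⟨Set.inter_subset_left.trans h1, h2.inter b, h4⟩
    have h6 : S ∩ S' = S :=
      Set.eq_of_subset_of_ncard_le Set.inter_subset_left h5 ((finite_pos (cs := cs) (h := h)).subset h1)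
    exact (h6.ge hx).2
  rw [hS]
  exact h3

theorem mem_Sup_iff (R : RGD cs h p T n X) [Finite W] {v : Y} (hv : v ∈ RGD.Sup X (RGD.Pos cs h)) {S : Set (I → ℤ)}
    (hS : S ⊆ RGD.Pos cs h) (hc : Closed cs h S) : v ∈ RGD.Sup X S ↔ Sp cs h X v ⊆ S :=
  ⟨fun h1 => sp_subset hS hc h1, fun h1 => RGD.Sup_mono h1 (mem_sp R hv)⟩

theorem mem_VJ_iff (R : RGD cs h p T n X) [Finite W] {v : Y} (hv : v ∈ RGD.Sup X (RGD.Pos cs h)) {J : Set I} :
    v ∈ VJ cs h X J ↔ Sp cs h X v ⊆ NotJ cs h J :=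
  mem_Sup_iff R hv (fun _ hx => ⟨hx.1, hx.2.1⟩) (closed_notJ J)

theorem mem_VJ_single (R : RGD cs h p T n X) [Finite W] {v : Y} (hv : v ∈ RGD.Sup X (RGD.Pos cs h)) {i : I} :
    v ∈ VJ cs h X {i} ↔ sr i ∉ Sp cs h X v := by
  rw [mem_VJ_iff R hv]
  constructor
  · intro h1 h2
    exact (mem_notJ_single.1 (h1 h2)).2 rfl
  · intro h1 x hx
    exact mem_notJ_single.2 ⟨sp_pos hv hx, fun e => h1 (e ▸ hx)⟩

theorem conj_mem_image (R : RGD cs h p T n X) {w : W} {k : Y} (hk : Rp cs R.nsys w k) {S : Set (I → ℤ)}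
    (hS : ∀ x ∈ S, IsRoot cs h x) {v : Y} (hv : v ∈ RGD.Sup X S) :
    k * v * k⁻¹ ∈ RGD.Sup X (rep cs h w '' S) := by
  have h1 : cj k (RGD.Sup X S) ≤ RGD.Sup X (rep cs h w '' S) := by
    rw [RGD.cj_Sup]
    refine iSup_le ?_
    rintro ⟨z, hz⟩
    rw [R.conj_rp hk (hS z hz)]
    exact RGD.le_Sup ⟨z, hz, rfl⟩
  exact h1 (conj_mem_cj.2 hv)

/-- the transport of coordinates (T2) -/
def Tr (R : RGD cs h p T n X) : Prop := ∀ {w : W} {k v : Y}, Rp cs R.nsys w k → v ∈ RGD.Sup X (RGD.Pos cs h) →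
  ∀ {S : Set (I → ℤ)}, S ⊆ RGD.Pos cs h → Closed cs h S → k * v * k⁻¹ ∈ RGD.Sup X S →
    v ∈ RGD.Sup X {x | x ∈ RGD.Pos cs h ∧ rep cs h w x ∈ S}

theorem closed_pre {S : Set (I → ℤ)} (hS : Closed cs h S) (w : W) :
    Closed cs h {x | x ∈ RGD.Pos cs h ∧ rep cs h w x ∈ S} := fun _ hx _ hy _ hz =>
  ⟨closed_pos _ hx.1 _ hy.1 _ hz, hS _ hx.2 _ hy.2 _ (hz.act w)⟩

/-- the support of a conjugate in `U` -/
theorem nonneg_of_conj {R : RGD cs h p T n X} (H : Tr R) {w : W} {k v : Y} (hk : Rp cs R.nsys w k)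
    (hv : v ∈ RGD.Sup X (RGD.Pos cs h)) (hkv : k * v * k⁻¹ ∈ RGD.Sup X (RGD.Pos cs h)) {x : I → ℤ}
    (hx : x ∈ Sp cs h X v) : 0 ≤ rep cs h w x := by
  have h1 := H hk hv (fun _ h => h) closed_pos hkv
  exact (sp_subset (fun _ h => h.1) (closed_pre closed_pos w) h1 hx).2.2

theorem mem_U_of_sp (R : RGD cs h p T n X) [Finite W] {w : W} {k v : Y} (hk : Rp cs R.nsys w k)
    (hv : v ∈ RGD.Sup X (RGD.Pos cs h)) (hw : ∀ x ∈ Sp cs h X v, 0 ≤ rep cs h w x) :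
    k * v * k⁻¹ ∈ RGD.Sup X (RGD.Pos cs h) := by
  refine RGD.Sup_mono ?_ (conj_mem_image R hk (fun x hx => (sp_pos hv hx).1) (mem_sp R hv))
  rintro _ ⟨x, hx, rfl⟩
  exact ⟨(sp_pos hv hx).1.act w, hw x hx⟩

theorem sp_conj {R : RGD cs h p T n X} (H : Tr R) [Finite W] {w : W} {k v : Y} (hk : Rp cs R.nsys w k)
    (hv : v ∈ RGD.Sup X (RGD.Pos cs h)) (hw : ∀ x ∈ Sp cs h X v, 0 ≤ rep cs h w x) :
    Sp cs h X (k * v * k⁻¹) = rep cs h w '' Sp cs h X v := by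
  have hU := mem_U_of_sp R hk hv hw
  apply le_antisymm
  · refine sp_subset ?_ (closed_image (closed_sp v) w) (conj_mem_image R hk (fun x hx => (sp_pos hv hx).1) (mem_sp R hv))
    rintro _ ⟨x, hx, rfl⟩
    exact ⟨(sp_pos hv hx).1.act w, hw x hx⟩
  · rintro _ ⟨x, hx, rfl⟩
    have h1 := H hk hv (sp_pos hU) (closed_sp _) (mem_sp R hU)
    exact (sp_subset (fun _ h => h.1) (closed_pre (closed_sp _) w) h1 hx).2

/-- **the facts about root group data over `F₃`** (T1, T2) -/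
structure BB (R : RGD cs h 3 T n X) : Prop where
  tA2 : ∀ {a b : I}, M a b = 3 → ∀ {v : Y}, v ∈ RGD.Sup X (RGD.Pos cs h) → PS2 v →
    v ∈ VJ cs h X {a} ∨ v ∈ VJ cs h X {b}
  tA3 : ∀ {a b c : I}, M a b = 3 → M b c = 3 → M a c = 2 → ∀ {v : Y}, v ∈ VJ cs h X {b} → PS2 v →
    v ∈ VJ cs h X {a} ∨ v ∈ VJ cs h X {c}
  ew : ∀ {J : Set I} {v : Y}, v ∈ RGD.Sup X (RGD.Pos cs h) → v ∉ VJ cs h X J →
    ∃ w ∈ WJ cs J, ∃ k, Rp cs R.nsys w k ∧ k * v * k⁻¹ ∈ RGD.Sup X (RGD.Pos cs h) ∧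
      ∃ j ∈ J, k * v * k⁻¹ ∉ VJ cs h X {j}
  tr : Tr R
  surj : ∀ {a b : I}, M a b = 3 → ∀ (w : W) {x : Y}, x ∈ X (rep cs h w (sr a)) → x ≠ 1 →
    ∀ {s : Y}, s ∈ X (rep cs h w (sr a + sr b)) → ∃ t ∈ X (rep cs h w (sr b)), ⁅t, x⁆ = s

section

variable {R : RGD cs h 3 T n X} (Bx : BB R) [Finite W]

include Bx

/-- the test `A₂` -/
theorem t2 {a b : I} (hab : M a b = 3) {v : Y} (hv : v ∈ RGD.Sup X (RGD.Pos cs h)) (hP : PS2 v) (w : W)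
    (hw : ∀ x ∈ Sp cs h X v, 0 ≤ rep cs h w x) {γ δ : I → ℤ} (e1 : rep cs h w γ = sr a) (e2 : rep cs h w δ = sr b)
    (hγ : γ ∈ Sp cs h X v) (hδ : δ ∈ Sp cs h X v) : False := by
  obtain ⟨k, hk⟩ := exists_rp cs R.nsys w
  have hU := mem_U_of_sp R hk hv hw
  have hS := sp_conj (R := R) Bx.tr hk hv hw
  rcases Bx.tA2 hab hU (ps2_conj hP k) with h1 | h1
  · rw [mem_VJ_single R hU, hS] at h1
    exact h1 ⟨γ, hγ, e1⟩
  · rw [mem_VJ_single R hU, hS] at h1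
    exact h1 ⟨δ, hδ, e2⟩

/-- the test `A₃` -/
theorem t3 {a b c : I} (hab : M a b = 3) (hbc : M b c = 3) (hac : M a c = 2) {v : Y}
    (hv : v ∈ RGD.Sup X (RGD.Pos cs h)) (hP : PS2 v) (w : W)
    (hw : ∀ x ∈ Sp cs h X v, 0 ≤ rep cs h w x) (hb : ∀ x ∈ Sp cs h X v, rep cs h w x ≠ sr b) {γ δ : I → ℤ}
    (e1 : rep cs h w γ = sr a) (e2 : rep cs h w δ = sr c)
    (hγ : γ ∈ Sp cs h X v) (hδ : δ ∈ Sp cs h X v) : False := by
  obtain ⟨k, hk⟩ := exists_rp cs R.nsys w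
  have hU := mem_U_of_sp R hk hv hw
  have hS := sp_conj (R := R) Bx.tr hk hv hw
  have hb' : k * v * k⁻¹ ∈ VJ cs h X {b} := by
    rw [mem_VJ_single R hU, hS]
    rintro ⟨x, hx, e⟩
    exact hb x hx e
  rcases Bx.tA3 hab hbc hac hb' (ps2_conj hP k) with h1 | h1
  · rw [mem_VJ_single R hU, hS] at h1
    exact h1 ⟨γ, hγ, e1⟩
  · rw [mem_VJ_single R hU, hS] at h1
    exact h1 ⟨δ, hδ, e2⟩

end

end Cfsg.Agent.H122.SNX
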